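import Groth.Agent.Grp57.Morph
import Groth.Agent.SGA3a.FlatHom
import Groth.Agent.AlgGrp79.Pullback
import Mathlib.AlgebraicGeometry.Morphisms.QuasiFinite
import Mathlib.AlgebraicGeometry.Morphisms.Finite
import Groth.Agent.Unr55.DescProps

/-!
Homomorphisms of group schemes over a field: surjective onto reduced is flat; flat quasi-finite is finite surjective.
-/

set_option autoImplicit false
set_option backward.isDefEq.respectTransparency.types false
set_option linter.style.haveILetI false
universe v u

open CategoryTheory CategoryTheory.Limits MonoidalCategory CartesianMonoidalCategory MonObj GrpObj AlgebraicGeometry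

noncomputable section

namespace Groth.Agent.FibCrit57

section Cat
variable {C : Type u} [Category.{v} C] [CartesianMonoidalCategory C] {G H K P : C} [GrpObj G] [GrpObj H]

/-- the fibre square of a homomorphism is a base change of the kernel -/
theorem isPullback_ker (f : G ⟶ H) [IsMonHom f] {ic : K ⟶ G} (hK : IsPullback ic (toUnit K) f η[H])
    {p₁ p₂ : P ⟶ G} (hP : IsPullback p₁ p₂ f f) :
    ∃ u : P ⟶ K, IsPullback u p₂ (toUnit K) (toUnit G) := by
  have hone : ∀ T : C, (toUnit T ≫ η[H] : T ⟶ H) = 1 := fun T => (Hom.one_def).symm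
  have hw : (p₁ * p₂⁻¹) ≫ f = toUnit P ≫ η[H] := by
    rw [hone, MonObj.mul_comp, GrpObj.inv_comp, hP.w, mul_inv_cancel]
  refine ⟨hK.lift (p₁ * p₂⁻¹) (toUnit P) hw, IsPullback.mk' (toUnit_unique _ _) (fun T φ φ' h1 h2 => ?_)
    fun T a b _ => ?_⟩
  · refine hP.hom_ext ?_ h2
    have e : ∀ ψ : T ⟶ P, (ψ ≫ hK.lift (p₁ * p₂⁻¹) (toUnit P) hw) ≫ ic = (ψ ≫ p₁) * (ψ ≫ p₂)⁻¹ := fun ψ => by
      rw [Category.assoc, hK.lift_fst, MonObj.comp_mul, GrpObj.comp_inv]
    have h := congrArg (· ≫ ic) h1
    simp only [e] at h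
    rw [h2] at h
    exact mul_right_cancel h
  · have hb : ((a ≫ ic) * b) ≫ f = b ≫ f := by
      rw [MonObj.mul_comp, Category.assoc, hK.w, ← Category.assoc, toUnit_unique (a ≫ toUnit K) (toUnit T),
        hone, _root_.one_mul]
    refine ⟨hP.lift ((a ≫ ic) * b) b hb, hK.hom_ext ?_ (toUnit_unique _ _), hP.lift_snd _ _ _⟩
    rw [Category.assoc, hK.lift_fst, MonObj.comp_mul, GrpObj.comp_inv, hP.lift_fst, hP.lift_snd, mul_inv_cancel_right]

end Cat

variable {k : Type u} [Field k] {G H : Over (Spec (CommRingCat.of k))} [GrpObj G] [GrpObj H]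

theorem flat_of_surjective_of_reduced (f : G ⟶ H) [IsMonHom f] [IsReduced H.left] [Surjective f.left] :
    Flat f.left := by
  let e : H.left := η[H].left (IsLocalRing.closedPoint k)
  have hirr := irreducibleComponent_mem_irreducibleComponents e
  obtain ⟨ξ, hξ⟩ := QuasiSober.sober (isIrreducible_irreducibleComponent (x := e)) isClosed_irreducibleComponent
  obtain ⟨x, rfl⟩ := f.left.surjective ξ
  letI := (isField_stalk_of_closure_mem_irreducibleComponents H.left (f.left x) (hξ.def.symm ▸ hirr)).toField
  refine SGA3a.flat_hom_of_flat_at f x ?_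
  algebraize [(f.left.stalkMap x).hom]
  exact inferInstanceAs (Module.Flat _ _)

theorem isFinite_surjective_of_flat (f : G ⟶ H) [IsMonHom f] [LocallyOfFiniteType G.hom] [QuasiCompact G.hom]
    [LocallyOfFiniteType H.hom] [IsSeparated H.hom] [ConnectedSpace H.left]
    [Flat f.left] [LocallyQuasiFinite f.left] [LocallyOfFinitePresentation f.left] :
    IsFinite f.left ∧ Surjective f.left := by
  have ho : IsOpen (Set.range f.left) := f.left.isOpenMap.isOpen_range
  have hc : IsClosed (Set.range f.left) := Grp57.isClosed_range_of_isLocallyClosed f ho.isLocallyClosed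
  haveI hs : Surjective f.left := ⟨Set.range_eq_univ.1
    ((IsClopen.eq_univ ⟨hc, ho⟩) ⟨_, η[G].left (IsLocalRing.closedPoint k), rfl⟩)⟩
  haveI : QuasiCompact f.left :=
    haveI : QuasiCompact (f.left ≫ H.hom) := by rw [Over.w]; infer_instance
    QuasiCompact.of_comp f.left H.hom
  let K := pullback f η[H]
  have hK : IsPullback (pullback.fst f η[H]) (toUnit K) f η[H] := by
    rw [toUnit_unique (toUnit K) (pullback.snd f η[H])]
    exact IsPullback.of_hasPullback f η[H]
  haveI : IsFinite (toUnit K).left := by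
    have hK' := AlgGrp79.isPullback_left hK
    haveI : LocallyQuasiFinite (toUnit K).left := MorphismProperty.of_isPullback hK' ‹LocallyQuasiFinite f.left›
    haveI : QuasiCompact (toUnit K).left := MorphismProperty.of_isPullback hK' ‹QuasiCompact f.left›
    exact @IsFinite.of_locallyQuasiFinite _ (Spec (CommRingCat.of k)) (toUnit K).left ‹_› ‹_› inferInstance
  obtain ⟨u, hu⟩ := isPullback_ker f hK (IsPullback.of_hasPullback f f)
  have h1 : IsFinite (pullback.snd f f).left :=
    MorphismProperty.of_isPullback (AlgGrp79.isPullback_left hu) ‹IsFinite (toUnit K).left›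
  haveI := Unr55.isFinite.{u}
  exact ⟨MorphismProperty.of_isPullback_of_descendsAlong (P := @IsFinite)
    (Q := @Surjective ⊓ @Flat ⊓ @QuasiCompact) (AlgGrp79.isPullback_left (IsPullback.of_hasPullback f f)).flip
    ⟨⟨hs, ‹Flat f.left›⟩, ‹QuasiCompact f.left›⟩ h1, hs⟩

end Groth.Agent.FibCrit57
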