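import Groth.Agent.FibCrit57.Scheme
import Groth.Agent.FibCrit57.GrpField
import Groth.Agent.AlgGrp79.SepDense
import Groth.Agent.SpPts86.LocPMore
import Mathlib.AlgebraicGeometry.Geometrically.Connected
import Mathlib.AlgebraicGeometry.Geometrically.Reduced

/-!
Isogenies of group schemes and their fibres.
-/

set_option autoImplicit false
set_option backward.isDefEq.respectTransparency.types false
set_option linter.style.haveILetI false
universe u

open CategoryTheory CategoryTheory.Limits MonoidalCategory CartesianMonoidalCategory MonObj GrpObj AlgebraicGeometry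

noncomputable section

namespace Groth.Agent.FibCrit57

variable {S : Scheme.{u}} {G H : Over S}

/-- the fibre of an `S`-scheme -/
abbrev fibO (s : S) (G : Over S) : Over (Spec (S.residueField s)) :=
  (Over.pullback (S.fromSpecResidueField s)).obj G

/-- the fibre of a morphism is its base change to the fibre of the target -/
theorem isPullback_fibreMap (f : G ⟶ H) (s : S) :
    IsPullback (pullback.fst G.hom (S.fromSpecResidueField s))
      ((Over.pullback (S.fromSpecResidueField s)).map f).left f.left (H.hom.fiberι s) := by
  refine (IsPullback.of_right (h₁₂ := (fibO s H).hom) (h₂₂ := H.hom) (v₁₃ := S.fromSpecResidueField s)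
    ?_ ?_ (IsPullback.of_hasPullback H.hom (S.fromSpecResidueField s)).flip).flip
  · rw [Over.w, Over.w]
    exact (IsPullback.of_hasPullback G.hom (S.fromSpecResidueField s)).flip
  · exact pullback.lift_fst _ _ _

theorem fibre_prop_iff (P : MorphismProperty Scheme.{u}) [P.RespectsIso] (f : G ⟶ H) (s : S) :
    P ((Over.pullback (S.fromSpecResidueField s)).map f).left ↔ P (pullback.snd f.left (H.hom.fiberι s)) := by
  rw [← (isPullback_fibreMap f s).isoPullback_hom_snd]
  exact MorphismProperty.cancel_left_of_respectsIso P _ _

variable [GrpObj G] [GrpObj H] (f : G ⟶ H) [IsMonHom f]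

instance grpFibO (s : S) (G : Over S) [GrpObj G] : GrpObj (fibO s G) := Functor.grpObjObj

/-- flatness of a surjective homomorphism onto a group with geometrically reduced fibres -/
theorem flat_of_surjective_fibres [LocallyOfFinitePresentation G.hom] [Flat G.hom]
    [LocallyOfFinitePresentation H.hom] (hred : ∀ s : S, IsReduced (H.hom.fiber s))
    (hsurj : ∀ s : S, Surjective (pullback.snd f.left (H.hom.fiberι s))) : Flat f.left := by
  haveI : LocallyOfFinitePresentation (f.left ≫ H.hom) := by rw [Over.w]; infer_instance
  haveI : Flat (f.left ≫ H.hom) := by rw [Over.w]; infer_instance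
  refine flat_of_fibrewise f.left H.hom fun s => ?_
  haveI : Surjective ((Over.pullback (S.fromSpecResidueField s)).map f).left :=
    (fibre_prop_iff @Surjective f s).2 (hsurj s)
  haveI : IsReduced (fibO s H).left := hred s
  exact (fibre_prop_iff @Flat f s).1
    (flat_of_surjective_of_reduced (k := S.residueField s) ((Over.pullback (S.fromSpecResidueField s)).map f))

theorem isFinite_surjective_fibre_of_flat [LocallyOfFiniteType G.hom] [QuasiCompact G.hom]
    [LocallyOfFiniteType H.hom] [IsSeparated H.hom] [GeometricallyConnected H.hom]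
    [Flat f.left] [LocallyQuasiFinite f.left] [LocallyOfFinitePresentation f.left] (s : S) :
    IsFinite (pullback.snd f.left (H.hom.fiberι s)) ∧ Surjective (pullback.snd f.left (H.hom.fiberι s)) := by
  let fs := (Over.pullback (S.fromSpecResidueField s)).map f
  have hb := isPullback_fibreMap f s
  haveI : Flat fs.left := MorphismProperty.of_isPullback hb ‹Flat f.left›
  haveI : LocallyQuasiFinite fs.left := MorphismProperty.of_isPullback hb ‹LocallyQuasiFinite f.left›
  haveI : LocallyOfFinitePresentation fs.left :=
    MorphismProperty.of_isPullback hb ‹LocallyOfFinitePresentation f.left›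
  haveI : LocallyOfFiniteType (fibO s G).hom := inferInstanceAs (LocallyOfFiniteType (pullback.snd _ _))
  haveI : QuasiCompact (fibO s G).hom := inferInstanceAs (QuasiCompact (pullback.snd _ _))
  haveI : LocallyOfFiniteType (fibO s H).hom := inferInstanceAs (LocallyOfFiniteType (pullback.snd _ _))
  haveI : IsSeparated (fibO s H).hom := inferInstanceAs (IsSeparated (pullback.snd _ _))
  haveI : ConnectedSpace (fibO s H).left := inferInstanceAs (ConnectedSpace (H.hom.fiber s))
  obtain ⟨h1, h2⟩ := isFinite_surjective_of_flat (k := S.residueField s) fs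
  exact ⟨(fibre_prop_iff @IsFinite f s).1 h1, (fibre_prop_iff @Surjective f s).1 h2⟩

theorem isogeny_iff [Smooth G.hom] [QuasiCompact G.hom]
    [Smooth H.hom] [IsSeparated H.hom] [GeometricallyConnected H.hom] :
    (Flat f.left ∧ LocallyQuasiFinite f.left ∧ LocallyOfFinitePresentation f.left) ↔
      ∀ s : S, IsFinite (pullback.snd f.left (H.hom.fiberι s)) ∧
        Surjective (pullback.snd f.left (H.hom.fiberι s)) := by
  haveI : LocallyOfFinitePresentation (f.left ≫ H.hom) := by rw [Over.w]; infer_instance
  haveI : LocallyOfFiniteType f.left :=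
    haveI : LocallyOfFiniteType (f.left ≫ H.hom) := by rw [Over.w]; infer_instance
    locallyOfFiniteType_of_comp f.left H.hom
  refine ⟨fun ⟨_, _, _⟩ s => isFinite_surjective_fibre_of_flat f s, fun h => ⟨?_, ?_, SpPts86.lfp_of_comp f.left H.hom⟩⟩
  · refine flat_of_surjective_fibres f (fun s => ?_) fun s => (h s).2
    haveI : Smooth (pullback.snd H.hom (S.fromSpecResidueField s)) := MorphismProperty.pullback_snd _ _ ‹Smooth H.hom›
    exact @AlgGrp79.isReduced_of_smooth (S.residueField s) _ _ (pullback.snd H.hom (S.fromSpecResidueField s)) this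
  · refine LocallyQuasiFinite.of_finite_preimage_singleton _ fun y => ?_
    obtain ⟨y', hy'⟩ : y ∈ Set.range (H.hom.fiberι (H.hom y)) := by rw [Scheme.Hom.range_fiberι]; rfl
    haveI := (h (H.hom y)).1
    refine ((IsFinite.finite_preimage_singleton (pullback.snd f.left (H.hom.fiberι (H.hom y))) y').image
      (pullback.fst f.left (H.hom.fiberι (H.hom y)))).subset fun x hx => ?_
    obtain ⟨z, hz1, hz2⟩ := Scheme.exists_preimage_of_isPullback
      (IsPullback.of_hasPullback f.left (H.hom.fiberι (H.hom y))) x y' (hx.trans hy'.symm)
    exact ⟨z, hz2, hz1⟩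

end Groth.Agent.FibCrit57
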