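import Groth.Agent.FibCrit57.OfModel
import Groth.Agent.Cons62.Model
import Groth.Agent.FlatStage64.Main
import Mathlib.RingTheory.TensorProduct.DirectLimitFG
import Mathlib.RingTheory.TensorProduct.Finite

/-!
The fibrewise criterion of flatness for finitely presented algebras over any ring.
-/

set_option autoImplicit false
set_option linter.style.haveILetI false
universe u

open TensorProduct

noncomputable section

namespace Groth.Agent.FibCrit57

attribute [local instance] Algebra.TensorProduct.rightAlgebra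

/-- an element dying in the colimit dies at a finitely generated stage -/
theorem exists_fg_rTensor_inclusion_eq_zero {A₀ A N : Type u} [CommRing A₀] [CommRing A] [Algebra A₀ A]
    [AddCommGroup N] [Module A₀ N] (D : Subalgebra A₀ A) (hD : D.FG) (x : D ⊗[A₀] N)
    (hx : D.val.toLinearMap.rTensor N x = 0) :
    ∃ (D' : Subalgebra A₀ A) (h : D ≤ D'), D'.FG ∧ (Subalgebra.inclusion h).toLinearMap.rTensor N x = 0 := by
  obtain ⟨J, hJ, y, rfl⟩ := Submodule.exists_fg_le_eq_rTensor_subtype x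
  let P := J.map D.val.toLinearMap
  let j : J →ₗ[A₀] P := (D.val.toLinearMap.domRestrict J).codRestrict P fun z => ⟨z.1, z.2, rfl⟩
  have hj : P.subtype ∘ₗ j = D.val.toLinearMap ∘ₗ J.subtype := LinearMap.ext fun z => rfl
  rw [← LinearMap.rTensor_comp_apply, ← hj, LinearMap.rTensor_comp_apply] at hx
  obtain ⟨Q, hPQ, ⟨T, hT⟩, hQ⟩ := TensorProduct.eq_zero_of_fg_of_subtype_eq_zero (hJ.map _) hx
  let D' := D ⊔ Algebra.adjoin A₀ (T : Set A)
  have hQD : Q ≤ Subalgebra.toSubmodule D' := by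
    rw [← hT, Submodule.span_le]
    exact fun a ha => (le_sup_right : Algebra.adjoin A₀ (T : Set A) ≤ D') (Algebra.subset_adjoin ha)
  refine ⟨D', le_sup_left, hD.sup (Subalgebra.fg_adjoin_finset T), ?_⟩
  let i : Q →ₗ[A₀] D' := Submodule.inclusion hQD
  have hi : (Subalgebra.inclusion (le_sup_left : D ≤ D')).toLinearMap ∘ₗ J.subtype =
      i ∘ₗ Submodule.inclusion hPQ ∘ₗ j := LinearMap.ext fun z => rfl
  rw [← LinearMap.rTensor_comp_apply, hi, LinearMap.rTensor_comp_apply, LinearMap.rTensor_comp_apply, hQ,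
    map_zero]

theorem exists_factor {R A B T : Type u} [CommRing R] [CommRing A] [CommRing B] [CommRing T] [Algebra R A]
    [Algebra R B] [Algebra R T] (f : A →ₐ[R] B) (hf : Function.Surjective f) (g : A →ₐ[R] T)
    (H : ∀ a, f a = 0 → g a = 0) : ∃ h : B →ₐ[R] T, ∀ a, h (f a) = g a :=
  ⟨AlgHom.liftOfSurjective f hf g fun a ha => H a ha, fun a => AlgHom.liftOfSurjective_apply f hf g _ a⟩

/-- base changes of quotients of polynomial rings -/
theorem isPushout_of_relations {D R B Q : Type u} [CommRing D] [CommRing R] [CommRing B] [CommRing Q]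
    [Algebra D R] [Algebra R B] [Algebra D B] [IsScalarTower D R B] [Algebra D Q] [Algebra Q B]
    [IsScalarTower D Q B] {n : ℕ} (π : MvPolynomial (Fin n) R →ₐ[R] B)
    (hπ : Function.Surjective π) (mk : MvPolynomial (Fin n) D →ₐ[D] Q) (hmk : Function.Surjective mk)
    (G : Set (MvPolynomial (Fin n) D)) (hG0 : ∀ g ∈ G, mk g = 0)
    (hG : Ideal.span (MvPolynomial.map (algebraMap D R) '' G) = RingHom.ker π.toRingHom)
    (hX : ∀ i, algebraMap Q B (mk (MvPolynomial.X i)) = π (MvPolynomial.X i)) :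
    Algebra.IsPushout D R Q B := by
  let β : Q →ₐ[D] B := IsScalarTower.toAlgHom D Q B
  let fwd : R ⊗[D] Q →ₐ[R] B :=
    Algebra.TensorProduct.lift (Algebra.ofId R B) β fun _ _ => Commute.all _ _
  let γ : MvPolynomial (Fin n) R →ₐ[R] R ⊗[D] Q :=
    MvPolynomial.aeval (R := R) fun i => (1 : R) ⊗ₜ[D] mk (MvPolynomial.X i)
  have hγ : ∀ q : MvPolynomial (Fin n) D, γ (MvPolynomial.map (algebraMap D R) q) = (1 : R) ⊗ₜ mk q := by
    intro q
    induction q using MvPolynomial.induction_on with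
    | C a =>
      rw [MvPolynomial.map_C, ← MvPolynomial.algebraMap_eq, γ.commutes, ← MvPolynomial.algebraMap_eq,
        mk.commutes]
      show algebraMap D R a ⊗ₜ (1 : Q) = (1 : R) ⊗ₜ algebraMap D Q a
      rw [Algebra.algebraMap_eq_smul_one, Algebra.algebraMap_eq_smul_one, TensorProduct.smul_tmul]
    | add p q hp hq => simp only [map_add, hp, hq, TensorProduct.tmul_add]
    | mul_X p i hp =>
      simp only [map_mul, hp, MvPolynomial.map_X, γ, MvPolynomial.aeval_X,
        Algebra.TensorProduct.tmul_mul_tmul, one_mul]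
  have hker : RingHom.ker π.toRingHom ≤ RingHom.ker γ.toRingHom := by
    rw [← hG, Ideal.span_le]
    rintro _ ⟨r, hr, rfl⟩
    show γ (MvPolynomial.map (algebraMap D R) r) = 0
    rw [hγ, hG0 r hr, TensorProduct.tmul_zero]
  let bwd : B →ₐ[R] R ⊗[D] Q := AlgHom.liftOfSurjective π hπ γ hker
  have hfπ : fwd.comp γ = π := MvPolynomial.algHom_ext fun i => by
    simp only [AlgHom.comp_apply, γ, fwd, MvPolynomial.aeval_X, Algebra.TensorProduct.lift_tmul, map_one, one_mul]
    exact hX i
  have hfb : fwd.comp bwd = AlgHom.id R B := by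
    refine AlgHom.ext fun b => ?_
    obtain ⟨q, rfl⟩ := hπ b
    simp only [bwd, AlgHom.comp_apply, AlgHom.liftOfSurjective_apply, AlgHom.id_apply]
    exact AlgHom.congr_fun hfπ q
  have hbf : bwd.comp fwd = AlgHom.id R _ := by
    refine Algebra.TensorProduct.ext (AlgHom.ext fun a => ?_) (AlgHom.ext fun x => ?_)
    · show bwd (fwd (a ⊗ₜ 1)) = a ⊗ₜ 1
      simp only [fwd, Algebra.TensorProduct.lift_tmul, map_one, mul_one, Algebra.ofId_apply]
      rw [bwd.commutes]
      rfl
    · obtain ⟨q, rfl⟩ := hmk x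
      show bwd (fwd (1 ⊗ₜ mk q)) = 1 ⊗ₜ mk q
      rw [← hγ, ← AlgHom.comp_apply fwd γ, hfπ]
      exact AlgHom.liftOfSurjective_apply π hπ γ _ _
  refine Algebra.IsPushout.of_equiv (AlgEquiv.ofAlgHom fwd bwd hfb hbf) (RingHom.ext fun x => ?_)
  show fwd (1 ⊗ₜ x) = algebraMap Q B x
  simp [fwd, β]

theorem flat_of_presented {D R B C C₁ : Type u} [CommRing D] [CommRing R] [CommRing B] [CommRing C]
    [CommRing C₁] [Algebra D R] [Algebra R B] [Algebra R C] [Algebra B C] [IsScalarTower R B C]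
    [Algebra D C₁] [IsNoetherianRing D] [Algebra.FiniteType D C₁] [Module.Flat D C₁]
    (e : R ⊗[D] C₁ ≃ₐ[R] C) {n : ℕ} (π : MvPolynomial (Fin n) R →ₐ[R] B) (hπ : Function.Surjective π)
    (G : Set (MvPolynomial (Fin n) D))
    (hG : Ideal.span (MvPolynomial.map (algebraMap D R) '' G) = RingHom.ker π.toRingHom)
    (y : Fin n → C₁) (hy : ∀ i, e (1 ⊗ₜ y i) = algebraMap B C (π (MvPolynomial.X i)))
    (hθ : ∀ g ∈ G, MvPolynomial.aeval y g = 0)
    (hfib : ∀ (p : Ideal R) [p.IsPrime],
      Module.Flat (p.ResidueField ⊗[R] B) ((p.ResidueField ⊗[R] B) ⊗[B] C)) :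
    Module.Flat B C := by
  letI : Algebra D B := ((algebraMap R B).comp (algebraMap D R)).toAlgebra
  haveI : IsScalarTower D R B := .of_algebraMap_eq' rfl
  letI : Algebra D C := ((algebraMap R C).comp (algebraMap D R)).toAlgebra
  haveI : IsScalarTower D R C := .of_algebraMap_eq' rfl
  haveI : IsScalarTower D B C := .of_algebraMap_eq fun x => by
    show algebraMap R C _ = algebraMap B C (algebraMap R B _)
    rw [← IsScalarTower.algebraMap_apply R B C]
  let I := Ideal.span G
  let φ₁ : (MvPolynomial (Fin n) D ⧸ I) →ₐ[D] C₁ :=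
    Ideal.Quotient.liftₐ I (MvPolynomial.aeval y) fun a ha =>
      RingHom.mem_ker.1 ((Ideal.span_le (I := RingHom.ker (MvPolynomial.aeval (R := D) y))).2
        (fun g hg => hθ g hg) ha)
  let aD : MvPolynomial (Fin n) D →ₐ[D] B := MvPolynomial.aeval fun i => π (MvPolynomial.X i)
  have hq : ∀ q, aD q = π (MvPolynomial.map (algebraMap D R) q) := by
    intro q
    induction q using MvPolynomial.induction_on with
    | C a =>
      rw [MvPolynomial.algHom_C, MvPolynomial.map_C, MvPolynomial.algHom_C]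
      rfl
    | add p q hp hq => simp only [map_add, hp, hq]
    | mul_X p i hp => simp only [map_mul, hp, MvPolynomial.map_X, aD, MvPolynomial.aeval_X]
  let β₁ : (MvPolynomial (Fin n) D ⧸ I) →ₐ[D] B := Ideal.Quotient.liftₐ I aD fun a ha =>
    RingHom.mem_ker.1 ((Ideal.span_le (I := RingHom.ker aD)).2 (fun g hg => by
      show aD g = 0
      rw [hq]
      have h1 : MvPolynomial.map (algebraMap D R) g ∈ RingHom.ker π.toRingHom :=
        hG ▸ Ideal.subset_span ⟨g, hg, rfl⟩
      exact h1) ha)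
  letI : Algebra (MvPolynomial (Fin n) D ⧸ I) C₁ := φ₁.toRingHom.toAlgebra
  letI : Algebra (MvPolynomial (Fin n) D ⧸ I) B := β₁.toRingHom.toAlgebra
  letI : Algebra (MvPolynomial (Fin n) D ⧸ I) C := ((algebraMap B C).comp β₁.toRingHom).toAlgebra
  haveI : IsScalarTower (MvPolynomial (Fin n) D ⧸ I) B C := .of_algebraMap_eq' rfl
  haveI : IsScalarTower D (MvPolynomial (Fin n) D ⧸ I) B := .of_algebraMap_eq fun x => (β₁.commutes x).symm
  haveI : IsScalarTower D (MvPolynomial (Fin n) D ⧸ I) C₁ := .of_algebraMap_eq fun x => (φ₁.commutes x).symm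
  let inc : C₁ →ₐ[D] C := (e.toAlgHom.restrictScalars D).comp Algebra.TensorProduct.includeRight
  letI : Algebra C₁ C := inc.toRingHom.toAlgebra
  haveI : IsScalarTower D C₁ C := .of_algebraMap_eq fun x => (inc.commutes x).symm
  haveI : IsScalarTower (MvPolynomial (Fin n) D ⧸ I) C₁ C := by
    refine .of_algebraMap_eq fun x => ?_
    obtain ⟨q, rfl⟩ := Ideal.Quotient.mk_surjective x
    have h : (IsScalarTower.toAlgHom D B C).comp aD = inc.comp (MvPolynomial.aeval y) :=
      MvPolynomial.algHom_ext fun i => by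
        simp only [AlgHom.comp_apply, aD, inc, MvPolynomial.aeval_X]
        exact (hy i).symm
    exact AlgHom.congr_fun h q
  haveI : Algebra.IsPushout D R (MvPolynomial (Fin n) D ⧸ I) B :=
    isPushout_of_relations π hπ (Ideal.Quotient.mkₐ D I) (Ideal.Quotient.mkₐ_surjective D I) G
      (fun g hg => Ideal.Quotient.eq_zero_iff_mem.2 (Ideal.subset_span hg)) hG fun i => MvPolynomial.aeval_X _ i
  haveI : Algebra.IsPushout D R C₁ C := Algebra.IsPushout.of_equiv e (RingHom.ext fun x => rfl)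
  haveI : Algebra.IsPushout (MvPolynomial (Fin n) D ⧸ I) B C₁ C := by
    haveI : Algebra.IsPushout D (MvPolynomial (Fin n) D ⧸ I) R B := Algebra.IsPushout.symm inferInstance
    exact Algebra.IsPushout.symm ((Algebra.IsPushout.comp_iff D (MvPolynomial (Fin n) D ⧸ I) R B
      (T := C₁) (T' := C)).1 (Algebra.IsPushout.symm inferInstance))
  haveI : IsNoetherianRing C₁ := Algebra.FiniteType.isNoetherianRing D C₁
  haveI : IsNoetherianRing (MvPolynomial (Fin n) D ⧸ I) := isNoetherianRing_of_surjective _ _ (Ideal.Quotient.mk I) Ideal.Quotient.mk_surjective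
  exact flat_of_model (D := D) (R := R) (B₁ := MvPolynomial (Fin n) D ⧸ I) (C₁ := C₁) hfib

theorem flat_of_presented_stage {A₀ D R B C C₀ : Type u} [CommRing A₀] [CommRing D] [CommRing R]
    [CommRing B] [CommRing C] [CommRing C₀] [Algebra A₀ D] [Algebra A₀ R] [Algebra D R]
    [IsScalarTower A₀ D R] [Algebra A₀ C₀] [Algebra.FiniteType A₀ C₀] [IsNoetherianRing D]
    [Algebra R B] [Algebra R C] [Algebra B C] [IsScalarTower R B C]
    [Module.Flat D (D ⊗[A₀] C₀)]
    (e : R ⊗[A₀] C₀ ≃ₐ[R] C) {n : ℕ} (π : MvPolynomial (Fin n) R →ₐ[R] B) (hπ : Function.Surjective π)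
    (G : Set (MvPolynomial (Fin n) D))
    (hG : Ideal.span (MvPolynomial.map (algebraMap D R) '' G) = RingHom.ker π.toRingHom)
    (y : Fin n → C₀) (hy : ∀ i, e (1 ⊗ₜ y i) = algebraMap B C (π (MvPolynomial.X i)))
    (hθ : ∀ g ∈ G, MvPolynomial.aeval (fun i => (1 : D) ⊗ₜ[A₀] y i) g = 0)
    (hfib : ∀ (p : Ideal R) [p.IsPrime],
      Module.Flat (p.ResidueField ⊗[R] B) ((p.ResidueField ⊗[R] B) ⊗[B] C)) :
    Module.Flat B C :=
  flat_of_presented ((Algebra.TensorProduct.cancelBaseChange A₀ D R R C₀).trans e) π hπ G hG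
    (fun i => (1 : D) ⊗ₜ y i) (fun i => by
      rw [AlgEquiv.trans_apply, Algebra.TensorProduct.cancelBaseChange_tmul, one_smul]
      exact hy i) hθ hfib

theorem θ_natural {A₀ R C₀ : Type u} [CommRing A₀] [CommRing R] [Algebra A₀ R] [CommRing C₀] [Algebra A₀ C₀]
    {n : ℕ} (y : Fin n → C₀) {D₁ D : Subalgebra A₀ R} (h : D₁ ≤ D) (q : MvPolynomial (Fin n) D₁) :
    MvPolynomial.aeval (fun i => (1 : D) ⊗ₜ[A₀] y i) (MvPolynomial.map (Subalgebra.inclusion h).toRingHom q) =
      Algebra.TensorProduct.map (Subalgebra.inclusion h) (AlgHom.id A₀ C₀)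
        (MvPolynomial.aeval (fun i => (1 : D₁) ⊗ₜ[A₀] y i) q) := by
  induction q using MvPolynomial.induction_on with
  | C a =>
    rw [MvPolynomial.map_C, MvPolynomial.algHom_C, MvPolynomial.algHom_C]
    rfl
  | add p q hp hq => simp only [map_add, hp, hq]
  | mul_X p i hp =>
    simp only [map_mul, hp, MvPolynomial.map_X, MvPolynomial.aeval_X, Algebra.TensorProduct.map_tmul,
      map_one, AlgHom.id_apply]

theorem map_id_eq_rTensor {A₀ D E N : Type u} [CommRing A₀] [CommRing D] [CommRing E] [CommRing N]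
    [Algebra A₀ D] [Algebra A₀ E] [Algebra A₀ N] (f : D →ₐ[A₀] E) (x : D ⊗[A₀] N) :
    Algebra.TensorProduct.map f (AlgHom.id A₀ N) x = f.toLinearMap.rTensor N x := by
  induction x using TensorProduct.induction_on with
  | zero => simp
  | add a b ha hb => rw [map_add, map_add, ha, hb]
  | tmul a b => simp

/-- the relations of a presentation hold at a finitely generated stage -/
theorem exists_stage {A₀ R B C C₀ : Type u} [CommRing A₀] [CommRing R] [CommRing B] [CommRing C] [CommRing C₀]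
    [Algebra A₀ R] [Algebra A₀ C₀] [Algebra R B] [Algebra R C] [Algebra B C] [IsScalarTower R B C]
    (e : R ⊗[A₀] C₀ ≃ₐ[R] C) {n : ℕ} (π : MvPolynomial (Fin n) R →ₐ[R] B)
    (w : Finset (MvPolynomial (Fin n) R)) (hw : Ideal.span (w : Set _) = RingHom.ker π.toRingHom)
    (y : Fin n → C₀) (hy : ∀ i, e (1 ⊗ₜ y i) = algebraMap B C (π (MvPolynomial.X i)))
    (D₀ : Subalgebra A₀ R) (hD₀ : D₀.FG) :
    ∃ D : Subalgebra A₀ R, D.FG ∧ D₀ ≤ D ∧ ∃ G : Set (MvPolynomial (Fin n) D),
      Ideal.span (MvPolynomial.map (algebraMap D R) '' G) = RingHom.ker π.toRingHom ∧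
      ∀ g ∈ G, MvPolynomial.aeval (fun i => (1 : D) ⊗ₜ[A₀] y i) g = 0 := by
  classical
  let θ : (D : Subalgebra A₀ R) → MvPolynomial (Fin n) D →ₐ[D] D ⊗[A₀] C₀ := fun D =>
    MvPolynomial.aeval fun i => (1 : D) ⊗ₜ y i
  let toC : (D : Subalgebra A₀ R) → D ⊗[A₀] C₀ →+* C := fun D =>
    e.toRingHom.comp (Algebra.TensorProduct.map D.val (AlgHom.id A₀ C₀)).toRingHom
  have htoC : ∀ (D : Subalgebra A₀ R) (q : MvPolynomial (Fin n) D),
      toC D (θ D q) = algebraMap B C (π (MvPolynomial.map D.val.toRingHom q)) := by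
    intro D q
    induction q using MvPolynomial.induction_on with
    | C a =>
      simp only [θ, toC, MvPolynomial.algHom_C, MvPolynomial.map_C]
      show e ((a : R) ⊗ₜ (1 : C₀)) = _
      rw [← IsScalarTower.algebraMap_apply, ← e.commutes]
      rfl
    | add p q hp hq => simp only [map_add, hp, hq]
    | mul_X p i hp =>
      simp only [map_mul, hp, MvPolynomial.map_X]
      congr 1
      simp only [θ, toC, MvPolynomial.aeval_X]
      exact hy i
  let D₁ := D₀ ⊔ Algebra.adjoin A₀ (⋃ r ∈ w, (r.coeffs : Set R))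
  have hD₁ : D₁.FG := hD₀.sup (Subalgebra.fg_def.2
    ⟨_, w.finite_toSet.biUnion fun r _ => Finset.finite_toSet _, rfl⟩)
  have hg : ∀ r : w, ∃ g : MvPolynomial (Fin n) D₁, MvPolynomial.map D₁.val.toRingHom g = r.1 := fun r => by
    refine Set.mem_range.1 ?_
    rw [MvPolynomial.mem_range_map_iff_coeffs_subset]
    intro x hx
    exact ⟨⟨x, (le_sup_right : _ ≤ D₁) (Algebra.subset_adjoin (Set.mem_biUnion r.2 hx))⟩, rfl⟩
  choose g hg using hg
  have hπ0 : ∀ r : w, π r.1 = 0 := fun r => RingHom.mem_ker.1 (hw.le (Ideal.subset_span r.2) : _)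
  have hz : ∀ r : w, ∃ (D' : Subalgebra A₀ R) (h : D₁ ≤ D'), D'.FG ∧
      (Subalgebra.inclusion h).toLinearMap.rTensor C₀ (θ D₁ (g r)) = 0 := fun r => by
    refine exists_fg_rTensor_inclusion_eq_zero D₁ hD₁ _ ?_
    have h := htoC D₁ (g r)
    rw [hg, hπ0, map_zero] at h
    rw [← map_id_eq_rTensor]
    exact (map_eq_zero_iff e e.injective).1 h
  choose Dr hle hDr hzero using hz
  let D := D₁ ⊔ Finset.univ.sup Dr
  have hD : D.FG := hD₁.sup (Finset.sup_induction Subalgebra.fg_bot (fun _ h _ h' => h.sup h') fun r _ => hDr r)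
  let g' : w → MvPolynomial (Fin n) D := fun r =>
    MvPolynomial.map (Subalgebra.inclusion (le_sup_left : D₁ ≤ D)).toRingHom (g r)
  have hg' : ∀ r, MvPolynomial.map (algebraMap D R) (g' r) = r.1 := fun r => by
    rw [MvPolynomial.map_map]
    exact hg r
  have hθ : ∀ r, θ D (g' r) = 0 := fun r => by
    have hrD : Dr r ≤ D := (Finset.le_sup (Finset.mem_univ r)).trans le_sup_right
    have hnat := θ_natural y (le_sup_left : D₁ ≤ D) (g r)
    rw [hnat]
    rw [map_id_eq_rTensor]
    have : (Subalgebra.inclusion (le_sup_left : D₁ ≤ D)).toLinearMap =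
        (Subalgebra.inclusion hrD).toLinearMap ∘ₗ (Subalgebra.inclusion (hle r)).toLinearMap :=
      LinearMap.ext fun z => rfl
    rw [this, LinearMap.rTensor_comp_apply, hzero, map_zero]
  refine ⟨D, hD, le_sup_left.trans le_sup_left, Set.range g', ?_, ?_⟩
  · rw [← hw, ← Set.range_comp]
    congr 1
    ext r
    constructor
    · rintro ⟨r', rfl⟩
      rw [Function.comp_apply, hg']
      exact r'.2
    · exact fun hr => ⟨⟨r, hr⟩, hg' _⟩
  · rintro _ ⟨r, rfl⟩
    exact hθ r

/-- **Fibrewise criterion of flatness**: finitely presented algebras over any ring. -/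
theorem flat_of_fibres {R B C : Type u} [CommRing R] [CommRing B] [CommRing C] [Algebra R B] [Algebra R C]
    [Algebra B C] [IsScalarTower R B C] [Algebra.FinitePresentation R B] [Algebra.FinitePresentation R C]
    [Module.Flat R C]
    (hfib : ∀ (p : Ideal R) [p.IsPrime],
      Module.Flat (p.ResidueField ⊗[R] B) ((p.ResidueField ⊗[R] B) ⊗[B] C)) :
    Module.Flat B C := by
  classical
  obtain ⟨n, π, hπ, w, hw⟩ := (inferInstance : Algebra.FinitePresentation R B).out
  obtain ⟨A₀, C₀, _, _, e, hN, hfp, ht⟩ := Cons62.exists_model (A := R)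
    (t := Set.range fun i : Fin n => algebraMap B C (π (MvPolynomial.X i))) (Set.finite_range _)
  haveI := hN
  haveI := hfp
  choose y hy using fun i => ht ⟨i, rfl⟩
  obtain ⟨D₀, hD₀, hflat⟩ := FlatStage64.exists_fg_flat (R := A₀) (B := C₀) (M := C₀) (A := R)
    (Module.Flat.of_linearEquiv e.toLinearEquiv)
  obtain ⟨D, hD, hle, G, hG, hθ⟩ := exists_stage e π w hw y hy D₀ hD₀
  haveI : Algebra.FiniteType A₀ D := (Subalgebra.fg_iff_finiteType D).1 hD
  haveI : IsNoetherianRing D := Algebra.FiniteType.isNoetherianRing A₀ D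
  haveI : Module.Flat D (D ⊗[A₀] C₀) := hflat D hle
  exact flat_of_presented_stage (D := D) e π hπ G hG y hy hθ hfib

end Groth.Agent.FibCrit57
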