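import Groth.Agent.Cons62.FlatFibre
import Mathlib.RingTheory.Flat.FaithfullyFlat.Basic
import Mathlib.RingTheory.Flat.Stability
import Mathlib.RingTheory.Localization.BaseChange
import Mathlib.RingTheory.IsTensorProduct

/-!
Flatness from the fibres, given a Noetherian model.
-/

set_option autoImplicit false
set_option linter.style.haveILetI false
universe u

open TensorProduct

noncomputable section

namespace Groth.Agent.FibCrit57

attribute [local instance] Algebra.TensorProduct.rightAlgebra

/-- flatness descends along a change of residue field -/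
theorem flat_fibre_descend {D R B₁ B C₁ C : Type u} [CommRing D] [CommRing R] [CommRing B₁]
    [CommRing B] [CommRing C₁] [CommRing C] [Algebra D R] [Algebra D B₁] [Algebra R B] [Algebra B₁ B]
    [Algebra D B] [IsScalarTower D R B] [IsScalarTower D B₁ B] [Algebra.IsPushout D R B₁ B]
    [Algebra B₁ C₁] [Algebra B C] [Algebra B₁ C] [Algebra C₁ C] [IsScalarTower B₁ B C]
    [IsScalarTower B₁ C₁ C] [Algebra.IsPushout B₁ B C₁ C]
    (k₁ k : Type u) [Field k₁] [Field k] [Algebra D k₁] [Algebra R k] [Algebra D k] [Algebra k₁ k]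
    [IsScalarTower D R k] [IsScalarTower D k₁ k]
    (h : Module.Flat (k ⊗[R] B) ((k ⊗[R] B) ⊗[B] C)) :
    Module.Flat (k₁ ⊗[D] B₁) ((k₁ ⊗[D] B₁) ⊗[B₁] C₁) := by
  let E₁ := k₁ ⊗[D] B₁
  let F := k ⊗[k₁] E₁
  haveI : Module.FaithfullyFlat E₁ F := by
    have : Module.FaithfullyFlat E₁ (E₁ ⊗[k₁] k) := inferInstance
    let e : (E₁ ⊗[k₁] k) ≃ₗ[E₁] F :=
      { (Algebra.TensorProduct.comm k₁ E₁ k).toAddEquiv with
        map_smul' := fun a x => by
          induction x using TensorProduct.induction_on with
          | zero => simp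
          | add x y hx hy => simp only [smul_add]; simp_all
          | tmul x y =>
            show Algebra.TensorProduct.comm k₁ E₁ k (a • (x ⊗ₜ[k₁] y)) = algebraMap E₁ F a * (y ⊗ₜ[k₁] x)
            rw [TensorProduct.smul_tmul', Algebra.TensorProduct.comm_tmul]
            show _ = ((1 : k) ⊗ₜ[k₁] a) * (y ⊗ₜ[k₁] x)
            rw [Algebra.TensorProduct.tmul_mul_tmul, one_mul]
            rfl }
    exact Module.FaithfullyFlat.of_linearEquiv E₁ (E₁ ⊗[k₁] k) e.symm
  haveI : IsScalarTower R k F := inferInstance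
  letI : Algebra B₁ F := ((algebraMap E₁ F).comp (algebraMap B₁ E₁)).toAlgebra
  haveI : IsScalarTower B₁ E₁ F := .of_algebraMap_eq' rfl
  haveI : IsScalarTower D R F := IsScalarTower.of_algebraMap_eq (R := D) (S := R) (A := F) fun x => by
    show algebraMap k F (algebraMap D k x) = algebraMap k F (algebraMap R k (algebraMap D R x))
    rw [← IsScalarTower.algebraMap_apply D R k]
  haveI : IsScalarTower D B₁ F := .of_algebraMap_eq fun x => by
    show algebraMap k F (algebraMap D k x) = algebraMap E₁ F (algebraMap B₁ E₁ (algebraMap D B₁ x))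
    rw [IsScalarTower.algebraMap_apply D k₁ k,
      ← IsScalarTower.algebraMap_apply k₁ k F, IsScalarTower.algebraMap_apply k₁ E₁ F]
    congr 1
    show (algebraMap D k₁ x) ⊗ₜ (1 : B₁) = (1 : k₁) ⊗ₜ (algebraMap D B₁ x)
    rw [Algebra.algebraMap_eq_smul_one, Algebra.algebraMap_eq_smul_one, TensorProduct.smul_tmul]
  let β : B →ₐ[D] F := Algebra.pushoutDesc B (IsScalarTower.toAlgHom D R F)
    (IsScalarTower.toAlgHom D B₁ F) fun _ _ => mul_comm _ _
  letI : Algebra B F := β.toRingHom.toAlgebra
  haveI : IsScalarTower B₁ B F := .of_algebraMap_eq fun x => by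
    show _ = β (algebraMap B₁ B x)
    rw [Algebra.pushoutDesc_right]
    rfl
  haveI : IsScalarTower R B F := .of_algebraMap_eq fun x => by
    show _ = β (algebraMap R B x)
    rw [Algebra.pushoutDesc_left]
    rfl
  let ε : k ⊗[R] B →ₐ[R] F := Algebra.TensorProduct.lift (IsScalarTower.toAlgHom R k F)
    (IsScalarTower.toAlgHom R B F) fun _ _ => .all _ _
  letI : Algebra (k ⊗[R] B) F := ε.toRingHom.toAlgebra
  haveI : IsScalarTower B (k ⊗[R] B) F := .of_algebraMap_eq fun x => by
    show _ = Algebra.TensorProduct.lift (IsScalarTower.toAlgHom R k F) (IsScalarTower.toAlgHom R B F) _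
      ((1 : k) ⊗ₜ[R] x)
    simp
  haveI : Module.Flat F (F ⊗[B] C) :=
    Module.Flat.of_linearEquiv (AlgebraTensorModule.cancelBaseChange B (k ⊗[R] B) F F C).symm
  haveI : Module.Flat F (F ⊗[E₁] (E₁ ⊗[B₁] C₁)) := by
    have hb : IsBaseChange B (IsScalarTower.toAlgHom B₁ C₁ C).toLinearMap := Algebra.IsPushout.out
    exact Module.Flat.of_linearEquiv
      (AlgebraTensorModule.cancelBaseChange B₁ E₁ F F C₁ ≪≫ₗ
        (AlgebraTensorModule.cancelBaseChange B₁ B F F C₁).symm ≪≫ₗ
        AlgebraTensorModule.congr (LinearEquiv.refl F F) hb.equiv)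
  exact Module.Flat.of_flat_tensorProduct E₁ (E₁ ⊗[B₁] C₁) F

theorem flat_of_model {D R B₁ B C₁ C : Type u} [CommRing D] [CommRing R] [CommRing B₁]
    [CommRing B] [CommRing C₁] [CommRing C] [Algebra D R] [Algebra D B₁] [Algebra R B] [Algebra B₁ B]
    [Algebra D B] [IsScalarTower D R B] [IsScalarTower D B₁ B] [Algebra.IsPushout D R B₁ B]
    [Algebra B₁ C₁] [Algebra B C] [Algebra B₁ C] [Algebra C₁ C] [IsScalarTower B₁ B C]
    [IsScalarTower B₁ C₁ C] [Algebra.IsPushout B₁ B C₁ C]
    [Algebra R C] [IsScalarTower R B C] [Algebra D C₁] [IsScalarTower D B₁ C₁]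
    [IsNoetherianRing D] [IsNoetherianRing B₁] [IsNoetherianRing C₁] [Module.Flat D C₁]
    (hfib : ∀ (p : Ideal R) [p.IsPrime],
      Module.Flat (p.ResidueField ⊗[R] B) ((p.ResidueField ⊗[R] B) ⊗[B] C)) :
    Module.Flat B C := by
  refine Module.flat_of_isLocalized_maximal (R := B) (S := C) C (fun P _ => Localization.AtPrime P)
    (fun P _ => Algebra.linearMap C (Localization.AtPrime P)) fun Q hQ => ?_
  haveI := hQ.isPrime
  let Q₁ := Q.under C₁
  let p := (Q.under B).under R
  let p₁ := (Q₁.under B₁).under D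
  have hp : p₁ = p.under D := by
    ext x
    simp only [p₁, p, Q₁, Ideal.under_def, Ideal.mem_comap]
    rw [← IsScalarTower.algebraMap_apply D R B, IsScalarTower.algebraMap_apply D B₁ B,
      ← IsScalarTower.algebraMap_apply B₁ B C, ← IsScalarTower.algebraMap_apply B₁ C₁ C]
  letI : Algebra p₁.ResidueField p.ResidueField :=
    (Ideal.ResidueField.map p₁ p (algebraMap D R) hp).toAlgebra
  haveI : IsScalarTower D p₁.ResidueField p.ResidueField := .of_algebraMap_eq fun x => by
    rw [RingHom.algebraMap_toAlgebra, IsScalarTower.algebraMap_apply D R p.ResidueField]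
    exact (Ideal.ResidueField.map_algebraMap ..).symm
  haveI : Module.Flat D (Localization.AtPrime Q₁ ⊗[C₁] C₁) := by
    haveI : Module.Flat D (Localization.AtPrime Q₁) := Module.Flat.trans D C₁ _
    exact Module.Flat.of_linearEquiv ((AlgebraTensorModule.rid C₁ C₁ (Localization.AtPrime Q₁)).restrictScalars D)
  have h1 : Module.Flat B₁ (Localization.AtPrime Q₁ ⊗[C₁] C₁) :=
    Cons62.flat_of_fibre_flat (A := D) Q₁ C₁ (flat_fibre_descend p₁.ResidueField p.ResidueField (hfib p))
  haveI : Module.Flat B₁ (Localization.AtPrime Q₁) :=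
    Module.Flat.of_linearEquiv ((AlgebraTensorModule.rid C₁ C₁ (Localization.AtPrime Q₁)).restrictScalars B₁).symm
  let M := Algebra.algebraMapSubmonoid C Q₁.primeCompl
  let S := Localization M
  letI : Algebra (Localization.AtPrime Q₁) S := localizationAlgebra Q₁.primeCompl C
  haveI : IsScalarTower C₁ (Localization.AtPrime Q₁) S := .of_algebraMap_eq' (IsLocalization.map_comp _).symm
  haveI : IsScalarTower B₁ (Localization.AtPrime Q₁) S := .of_algebraMap_eq fun x => by
    rw [IsScalarTower.algebraMap_apply B₁ C₁ (Localization.AtPrime Q₁), ← IsScalarTower.algebraMap_apply C₁ _ S,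
      IsScalarTower.algebraMap_apply C₁ C S, IsScalarTower.algebraMap_apply B₁ C S,
      IsScalarTower.algebraMap_apply B₁ C₁ C]
  haveI : Algebra.IsPushout C₁ C (Localization.AtPrime Q₁) S :=
    (Algebra.isPushout_of_isLocalization Q₁.primeCompl (Localization.AtPrime Q₁) C S).symm.symm
  haveI : Algebra.IsPushout B₁ C₁ B C := Algebra.IsPushout.symm inferInstance
  haveI hS : Algebra.IsPushout B₁ (Localization.AtPrime Q₁) B S :=
    (Algebra.IsPushout.comp_iff B₁ C₁ B C (T := Localization.AtPrime Q₁) (T' := S)).2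
      (Algebra.IsPushout.symm inferInstance)
  haveI : Module.Flat B S := Module.Flat.isBaseChange B₁ B (Localization.AtPrime Q₁) S
    (Algebra.IsPushout.symm hS).out
  -- the local ring at `Q` is a localization of `S`
  have hMQ : M ≤ Q.primeCompl := by
    rintro _ ⟨x, hx, rfl⟩
    exact hx
  letI : Algebra S (Localization.AtPrime Q) :=
    IsLocalization.localizationAlgebraOfSubmonoidLe S (Localization.AtPrime Q) M Q.primeCompl hMQ
  haveI : IsScalarTower C S (Localization.AtPrime Q) :=
    IsLocalization.localization_isScalarTower_of_submonoid_le S (Localization.AtPrime Q) M Q.primeCompl hMQ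
  haveI : IsScalarTower B S (Localization.AtPrime Q) := .of_algebraMap_eq fun x => by
    rw [IsScalarTower.algebraMap_apply B C S, ← IsScalarTower.algebraMap_apply C S,
      ← IsScalarTower.algebraMap_apply B C]
  haveI : Module.Flat S (Localization.AtPrime Q) :=
    (Module.flat_iff_of_isLocalization S M (Localization.AtPrime Q)).2 (IsLocalization.flat _ Q.primeCompl)
  haveI : Module.Flat B (Localization.AtPrime Q) := Module.Flat.trans B S _
  assumption

end Groth.Agent.FibCrit57
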