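import Groth.Agent.FibCrit57.Main
import Mathlib.AlgebraicGeometry.Fiber
import Mathlib.AlgebraicGeometry.Morphisms.Flat
import Mathlib.AlgebraicGeometry.Morphisms.FinitePresentation

/-!
The fibrewise criterion of flatness for schemes.
-/

set_option autoImplicit false
set_option backward.isDefEq.respectTransparency.types false
set_option linter.style.haveILetI false
universe u

open CategoryTheory CategoryTheory.Limits AlgebraicGeometry TensorProduct

noncomputable section

namespace Groth.Agent.FibCrit57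

variable {X Y S : Scheme.{u}}

/-- base change to anything lying over a point of the base factors through the fibre -/
theorem flat_snd_of_fibre (f : X ⟶ Y) (g : Y ⟶ S) {T : Scheme.{u}} (k : T ⟶ Y) {K : Type u} [Field K]
    (t : T ⟶ Spec (CommRingCat.of K)) (j : Spec (CommRingCat.of K) ⟶ S) (hk : k ≫ g = t ≫ j)
    (hfib : Flat (pullback.snd f (g.fiberι (j (IsLocalRing.closedPoint K))))) :
    Flat (pullback.snd f k) := by
  let s := j (IsLocalRing.closedPoint K)
  have w : k ≫ g = (t ≫ Spec.map (S.descResidueField (Scheme.stalkClosedPointTo j))) ≫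
      S.fromSpecResidueField s := by
    rw [Category.assoc, Scheme.descResidueField_stalkClosedPointTo_fromSpecResidueField, hk]
  let l : T ⟶ g.fiber s := pullback.lift k _ w
  have hl : l ≫ g.fiberι s = k := pullback.lift_fst _ _ w
  haveI := hfib
  let e : pullback (pullback.snd f (g.fiberι s)) l ≅ pullback f k :=
    pullbackLeftPullbackSndIso f (g.fiberι s) l ≪≫ pullback.congrHom rfl hl
  have he : e.hom ≫ pullback.snd f k = pullback.snd _ _ := by
    simp [e, pullback.lift_snd, pullback.lift_snd_assoc]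
  rw [← MorphismProperty.cancel_left_of_respectsIso @Flat e.hom, he]
  infer_instance

theorem isPullback_comp_mono {P A B C Z : Scheme.{u}} {a : P ⟶ A} {b : P ⟶ B} {u : A ⟶ C} {v : B ⟶ C}
    (h : IsPullback a b u v) (i : C ⟶ Z) [Mono i] : IsPullback a b (u ≫ i) (v ≫ i) :=
  IsPullback.mk' (by rw [reassoc_of% h.w]) (fun T φ φ' h1 h2 => h.hom_ext h1 h2) fun T p q hpq =>
    ⟨h.lift p q ((cancel_mono i).1 (by simpa using hpq)), h.lift_fst _ _ _, h.lift_snd _ _ _⟩

attribute [local instance] Algebra.TensorProduct.rightAlgebra in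
/-- **Fibrewise criterion of flatness** for schemes. -/
theorem flat_of_fibrewise (f : X ⟶ Y) (g : Y ⟶ S) [LocallyOfFinitePresentation (f ≫ g)]
    [LocallyOfFinitePresentation g] [Flat (f ≫ g)]
    (hfib : ∀ s : S, Flat (pullback.snd f (g.fiberι s))) : Flat f := by
  suffices H : ∀ x : X, ∃ W : X.Opens, x ∈ W ∧ Flat (W.ι ≫ f) by
    choose W hxW hW using H
    exact IsZariskiLocalAtSource.of_iSup_eq_top (P := (@Flat : MorphismProperty Scheme.{u})) W
      (top_le_iff.1 fun x _ => TopologicalSpace.Opens.mem_iSup.2 ⟨x, hxW x⟩) hW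
  intro x
  obtain ⟨_, ⟨U, hU, rfl⟩, hxU, -⟩ :=
    S.isBasis_affineOpens.exists_subset_of_mem_open (Set.mem_univ (g (f x))) isOpen_univ
  obtain ⟨_, ⟨V, hV, rfl⟩, hxV, hVU⟩ :=
    Y.isBasis_affineOpens.exists_subset_of_mem_open (show f x ∈ g ⁻¹ᵁ U from hxU) (g ⁻¹ᵁ U).2
  obtain ⟨_, ⟨W, hW, rfl⟩, hxW, hWV⟩ :=
    X.isBasis_affineOpens.exists_subset_of_mem_open (show x ∈ f ⁻¹ᵁ V from hxV) (f ⁻¹ᵁ V).2
  have hWU : W ≤ (f ≫ g) ⁻¹ᵁ U := fun z hz => hVU (hWV hz)
  refine ⟨W, hxW, ?_⟩
  let A := Γ(S, U)
  let B := Γ(Y, V)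
  let C := Γ(X, W)
  letI : Algebra A B := (g.appLE U V hVU).hom.toAlgebra
  letI : Algebra A C := ((f ≫ g).appLE U W hWU).hom.toAlgebra
  letI : Algebra B C := (f.appLE V W hWV).hom.toAlgebra
  haveI : IsScalarTower A B C := .of_algebraMap_eq' <| by
    show ((f ≫ g).appLE U W hWU).hom = (f.appLE V W hWV).hom.comp (g.appLE U V hVU).hom
    rw [← CommRingCat.hom_comp]
    exact congrArg CommRingCat.Hom.hom (Scheme.Hom.appLE_comp_appLE f g U V W hVU hWV).symm
  haveI : Algebra.FinitePresentation A B :=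
    RingHom.finitePresentation_algebraMap.1 (g.finitePresentation_appLE hU hV hVU)
  haveI : Algebra.FinitePresentation A C :=
    RingHom.finitePresentation_algebraMap.1 ((f ≫ g).finitePresentation_appLE hU hW hWU)
  haveI : Module.Flat A C := RingHom.flat_algebraMap_iff.1 (Flat.flat_appLE (f ≫ g) hU hW hWU)
  have hBC : Module.Flat B C := by
    refine flat_of_fibres (R := A) (B := B) (C := C) fun p _ => ?_
    let D := p.ResidueField ⊗[A] B
    let k : Spec (CommRingCat.of D) ⟶ Y := Spec.map (CommRingCat.ofHom (algebraMap B D)) ≫ hV.fromSpec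
    have hk : k ≫ g = Spec.map (CommRingCat.ofHom (algebraMap p.ResidueField D)) ≫
        (Spec.map (CommRingCat.ofHom (algebraMap A p.ResidueField)) ≫ hU.fromSpec) := by
      show (_ ≫ hV.fromSpec) ≫ g = _
      rw [Category.assoc, ← IsAffineOpen.SpecMap_appLE_fromSpec g hU hV hVU, ← Category.assoc,
        ← Category.assoc, ← Spec.map_comp, ← Spec.map_comp]
      congr 2
      ext a
      show algebraMap B D (algebraMap A B a) = algebraMap p.ResidueField D (algebraMap A p.ResidueField a)
      rw [← IsScalarTower.algebraMap_apply, ← IsScalarTower.algebraMap_apply]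
    have h1 := flat_snd_of_fibre f g k _ _ hk (hfib _)
    let j := hW.fromSpec
    haveI := h1
    haveI : Flat (pullback.snd (j ≫ f) k) := by
      have e : (pullbackRightPullbackFstIso f k j).hom ≫ pullback.snd (j ≫ f) k =
          pullback.snd j (pullback.fst f k) ≫ pullback.snd f k := by simp
      rw [← MorphismProperty.cancel_left_of_respectsIso @Flat (pullbackRightPullbackFstIso f k j).hom, e]
      infer_instance
    have hsq := isPullback_comp_mono (isPullback_SpecMap_of_isPushout _ _ _ _
      (CommRingCat.isPushout_of_isPushout B C D (D ⊗[B] C))) hV.fromSpec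
    rw [show Spec.map (CommRingCat.ofHom (algebraMap B C)) ≫ hV.fromSpec = j ≫ f from
      IsAffineOpen.SpecMap_appLE_fromSpec f hV hW hWV] at hsq
    have h2 : Flat (Spec.map (CommRingCat.ofHom (algebraMap D (D ⊗[B] C)))) := by
      rw [← hsq.isoPullback_hom_snd]
      infer_instance
    exact RingHom.flat_algebraMap_iff.1 ((HasRingHomProperty.Spec_iff (P := @Flat)).1 h2)
  haveI : Flat (Spec.map (f.appLE V W hWV)) :=
    (HasRingHomProperty.Spec_iff (P := @Flat)).2 (RingHom.flat_algebraMap_iff.2 hBC)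
  have : Scheme.Opens.ι W ≫ f = hW.isoSpec.hom ≫ Spec.map (f.appLE V W hWV) ≫ hV.fromSpec := by
    rw [IsAffineOpen.SpecMap_appLE_fromSpec f hV hW hWV, IsAffineOpen.isoSpec_hom_fromSpec_assoc]
  rw [this]
  infer_instance

end Groth.Agent.FibCrit57
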